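import Cfsg.Agent.Leech.F4

/-!
Machine-generated table: products of two generators of `SL₃` over four elements.
-/

set_option autoImplicit false
set_option maxRecDepth 10000

namespace Cfsg.Agent.ShortPres.Three.Four

open Cfsg.Agent.Plane21

/-- A matrix of nine entries. -/
structure Nine where
  a00 : F4
  a01 : F4
  a02 : F4
  a10 : F4
  a11 : F4
  a12 : F4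
  a20 : F4
  a21 : F4
  a22 : F4
  deriving DecidableEq

/-- zero -/
abbrev e0 : F4 := .z
/-- one -/
abbrev e1 : F4 := .o
/-- omega -/
abbrev e2 : F4 := .w
/-- omega squared -/
abbrev e3 : F4 := .u

/-- The first generator. -/
def matA : Nine := ⟨e3, e1, e2, e0, e1, e1, e1, e1, e2⟩
/-- Its inverse. -/
def matAinv : Nine := ⟨e3, e0, e3, e1, e3, e3, e1, e2, e3⟩
/-- The second generator. -/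
def matB : Nine := ⟨e1, e1, e0, e0, e1, e0, e0, e0, e1⟩

/-- Parent, letter and value. -/
def table : List (ℕ × ℕ × Nine) := [
  (0, 3, ⟨e1, e0, e0, e0, e1, e0, e0, e0, e1⟩),
  (0, 0, ⟨e3, e1, e2, e0, e1, e1, e1, e1, e2⟩),
  (0, 1, ⟨e3, e0, e3, e1, e3, e3, e1, e2, e3⟩),
  (0, 2, ⟨e1, e1, e0, e0, e1, e0, e0, e0, e1⟩),
  (1, 0, ⟨e0, e0, e3, e1, e0, e3, e1, e2, e0⟩),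
  (1, 2, ⟨e3, e2, e2, e0, e1, e1, e1, e0, e2⟩),
  (2, 1, ⟨e1, e1, e0, e3, e3, e3, e2, e0, e0⟩),
  (2, 2, ⟨e3, e3, e3, e1, e2, e3, e1, e3, e3⟩),
  (3, 0, ⟨e3, e0, e3, e0, e1, e1, e1, e1, e2⟩),
  (4, 0, ⟨e3, e3, e1, e0, e2, e3, e3, e3, e0⟩),
  (4, 2, ⟨e0, e0, e3, e1, e1, e3, e1, e3, e0⟩),
  (5, 0, ⟨e0, e3, e0, e1, e0, e3, e1, e3, e1⟩),
  (5, 1, ⟨e2, e2, e2, e0, e1, e0, e1, e3, e2⟩),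
  (6, 2, ⟨e1, e0, e0, e3, e0, e3, e2, e2, e0⟩),
  (7, 0, ⟨e1, e3, e3, e0, e0, e1, e0, e1, e0⟩),
  (7, 1, ⟨e2, e3, e2, e2, e0, e0, e3, e3, e3⟩),
  (8, 2, ⟨e3, e3, e3, e0, e1, e1, e1, e0, e2⟩),
  (9, 0, ⟨e3, e1, e0, e3, e1, e3, e2, e0, e2⟩),
  (9, 2, ⟨e3, e0, e1, e0, e2, e3, e3, e0, e0⟩),
  (10, 0, ⟨e3, e3, e1, e0, e3, e2, e3, e2, e1⟩),
  (11, 0, ⟨e0, e3, e3, e0, e2, e3, e2, e3, e3⟩),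
  (11, 2, ⟨e0, e3, e0, e1, e1, e3, e1, e2, e1⟩),
  (12, 2, ⟨e2, e0, e2, e0, e1, e0, e1, e2, e2⟩),
  (13, 0, ⟨e3, e1, e2, e1, e0, e0, e1, e0, e1⟩),
  (13, 1, ⟨e3, e0, e3, e1, e1, e0, e3, e1, e0⟩),
  (14, 0, ⟨e0, e1, e0, e1, e1, e2, e0, e1, e1⟩),
  (14, 2, ⟨e1, e2, e3, e0, e0, e1, e0, e1, e0⟩),
  (15, 1, ⟨e0, e1, e2, e1, e0, e1, e2, e3, e2⟩),
  (16, 0, ⟨e1, e3, e3, e1, e0, e3, e1, e3, e1⟩),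
  (17, 2, ⟨e3, e2, e0, e3, e2, e3, e2, e2, e2⟩),
  (18, 0, ⟨e3, e2, e3, e3, e1, e3, e2, e3, e1⟩),
  (19, 2, ⟨e3, e0, e1, e0, e3, e2, e3, e1, e1⟩),
  (20, 2, ⟨e0, e3, e3, e0, e2, e3, e2, e1, e3⟩),
  (21, 0, ⟨e0, e3, e3, e0, e3, e2, e2, e2, e2⟩),
  (21, 1, ⟨e3, e2, e2, e1, e2, e2, e0, e3, e1⟩),
  (22, 0, ⟨e3, e0, e0, e0, e1, e1, e1, e1, e3⟩),
  (23, 2, ⟨e3, e2, e2, e1, e1, e0, e1, e1, e1⟩),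
  (24, 2, ⟨e3, e3, e3, e1, e0, e0, e3, e2, e0⟩),
  (25, 2, ⟨e0, e1, e0, e1, e0, e2, e0, e1, e1⟩),
  (26, 1, ⟨e2, e0, e0, e1, e2, e3, e1, e3, e3⟩),
  (27, 1, ⟨e3, e0, e2, e2, e2, e0, e0, e1, e2⟩),
  (28, 0, ⟨e0, e1, e0, e0, e2, e3, e2, e3, e3⟩),
  (29, 0, ⟨e2, e1, e3, e1, e2, e2, e3, e2, e2⟩),
  (30, 2, ⟨e3, e1, e3, e3, e2, e3, e2, e1, e1⟩),
  (31, 1, ⟨e3, e2, e1, e1, e1, e3, e2, e1, e2⟩),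
  (32, 1, ⟨e0, e3, e0, e1, e0, e3, e3, e2, e0⟩),
  (33, 0, ⟨e3, e0, e2, e2, e1, e0, e3, e2, e2⟩),
  (34, 2, ⟨e3, e1, e2, e1, e3, e2, e0, e3, e1⟩),
  (35, 2, ⟨e3, e3, e0, e0, e1, e1, e1, e0, e3⟩),
  (36, 0, ⟨e0, e3, e0, e3, e0, e3, e2, e1, e1⟩),
  (37, 0, ⟨e1, e3, e3, e3, e1, e2, e2, e1, e3⟩),
  (38, 1, ⟨e1, e3, e3, e1, e3, e2, e0, e1, e0⟩),
  (39, 2, ⟨e2, e2, e0, e1, e3, e3, e1, e2, e3⟩),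
  (40, 2, ⟨e3, e3, e2, e2, e0, e0, e0, e1, e2⟩),
  (41, 2, ⟨e0, e1, e0, e0, e2, e3, e2, e1, e3⟩),
  (42, 2, ⟨e2, e3, e3, e1, e3, e2, e3, e1, e2⟩),
  (43, 1, ⟨e0, e2, e3, e3, e0, e1, e1, e1, e1⟩),
  (44, 2, ⟨e3, e1, e1, e1, e0, e3, e2, e3, e2⟩),
  (45, 1, ⟨e3, e2, e2, e0, e1, e1, e0, e1, e3⟩),
  (45, 2, ⟨e0, e3, e0, e1, e1, e3, e3, e1, e0⟩),
  (46, 0, ⟨e0, e1, e2, e1, e3, e2, e0, e3, e0⟩),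
  (47, 1, ⟨e1, e0, e0, e2, e1, e0, e2, e0, e1⟩),
  (48, 0, ⟨e2, e0, e2, e1, e0, e3, e0, e2, e3⟩),
  (49, 0, ⟨e0, e3, e3, e1, e0, e0, e0, e2, e0⟩),
  (49, 2, ⟨e0, e3, e0, e3, e3, e3, e2, e3, e1⟩),
  (50, 2, ⟨e1, e2, e3, e3, e2, e2, e2, e3, e3⟩),
  (51, 1, ⟨e3, e3, e3, e2, e1, e0, e1, e3, e3⟩),
  (51, 2, ⟨e1, e2, e3, e1, e2, e2, e0, e1, e0⟩),
  (52, 0, ⟨e1, e0, e1, e0, e1, e0, e0, e0, e1⟩),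
  (53, 1, ⟨e3, e1, e1, e1, e0, e1, e3, e0, e2⟩),
  (54, 1, ⟨e1, e3, e3, e1, e0, e3, e3, e2, e0⟩),
  (55, 1, ⟨e1, e3, e1, e2, e1, e0, e1, e0, e0⟩),
  (56, 1, ⟨e1, e0, e3, e3, e2, e1, e3, e1, e3⟩),
  (57, 1, ⟨e2, e1, e2, e0, e1, e1, e0, e1, e2⟩),
  (58, 2, ⟨e3, e1, e2, e0, e1, e1, e0, e1, e3⟩),
  (59, 0, ⟨e0, e3, e3, e0, e3, e2, e2, e2, e0⟩),
  (60, 2, ⟨e0, e1, e2, e1, e2, e2, e0, e3, e0⟩),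
  (61, 1, ⟨e3, e0, e3, e0, e3, e2, e0, e2, e2⟩),
  (62, 0, ⟨e3, e0, e0, e0, e2, e3, e3, e1, e3⟩),
  (63, 2, ⟨e0, e3, e3, e1, e1, e0, e0, e2, e0⟩),
  (64, 1, ⟨e3, e2, e2, e2, e3, e2, e3, e0, e0⟩),
  (65, 0, ⟨e0, e0, e1, e0, e3, e0, e2, e2, e1⟩),
  (66, 2, ⟨e3, e0, e3, e2, e3, e0, e1, e2, e3⟩),
  (67, 0, ⟨e0, e0, e1, e1, e1, e3, e0, e1, e1⟩),
  (69, 1, ⟨e2, e1, e2, e2, e2, e0, e0, e3, e3⟩),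
  (70, 1, ⟨e3, e3, e3, e0, e1, e1, e0, e1, e3⟩),
  (71, 1, ⟨e1, e0, e2, e0, e3, e2, e3, e0, e3⟩),
  (72, 1, ⟨e0, e1, e1, e1, e3, e0, e0, e2, e3⟩),
  (73, 2, ⟨e2, e3, e2, e0, e1, e1, e0, e1, e2⟩),
  (74, 0, ⟨e0, e0, e3, e1, e0, e3, e3, e2, e0⟩),
  (75, 2, ⟨e0, e3, e3, e0, e3, e2, e2, e0, e0⟩),
  (76, 1, ⟨e3, e0, e2, e3, e2, e3, e3, e2, e2⟩),
  (77, 1, ⟨e1, e1, e0, e1, e1, e3, e0, e2, e0⟩),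
  (78, 2, ⟨e3, e3, e0, e0, e2, e3, e3, e2, e3⟩),
  (79, 1, ⟨e0, e3, e0, e2, e3, e0, e2, e1, e1⟩),
  (80, 2, ⟨e3, e1, e2, e2, e1, e2, e3, e3, e0⟩),
  (81, 2, ⟨e0, e0, e1, e0, e3, e0, e2, e0, e1⟩),
  (82, 0, ⟨e1, e0, e0, e1, e1, e0, e0, e0, e1⟩),
  (83, 2, ⟨e0, e0, e1, e1, e0, e3, e0, e1, e1⟩),
  (84, 2, ⟨e2, e3, e2, e2, e0, e0, e0, e3, e3⟩),
  (85, 2, ⟨e3, e0, e3, e0, e1, e1, e0, e1, e3⟩),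
  (86, 2, ⟨e1, e1, e2, e0, e3, e2, e3, e3, e3⟩),
  (87, 2, ⟨e0, e1, e1, e1, e2, e0, e0, e2, e3⟩),
  (88, 0, ⟨e3, e3, e3, e1, e0, e3, e2, e3, e2⟩),
  (89, 0, ⟨e3, e3, e1, e0, e2, e3, e2, e1, e3⟩),
  (90, 1, ⟨e0, e3, e0, e1, e1, e3, e1, e0, e1⟩),
  (91, 1, ⟨e0, e3, e3, e3, e0, e1, e2, e2, e2⟩),
  (92, 2, ⟨e1, e0, e0, e1, e0, e3, e0, e2, e0⟩),
  (93, 0, ⟨e2, e0, e2, e3, e1, e3, e1, e2, e2⟩),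
  (94, 1, ⟨e3, e2, e2, e2, e2, e3, e1, e1, e1⟩),
  (95, 1, ⟨e1, e0, e0, e2, e0, e3, e1, e2, e0⟩),
  (96, 1, ⟨e1, e2, e3, e3, e2, e2, e0, e2, e2⟩),
  (98, 1, ⟨e1, e2, e3, e0, e1, e1, e0, e1, e0⟩),
  (99, 0, ⟨e3, e3, e3, e1, e2, e3, e3, e0, e2⟩),
  (100, 1, ⟨e1, e1, e0, e0, e1, e0, e2, e2, e1⟩),
  (101, 0, ⟨e1, e2, e0, e2, e1, e0, e1, e3, e3⟩),
  (102, 1, ⟨e0, e1, e0, e1, e1, e2, e1, e0, e3⟩),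
  (103, 2, ⟨e3, e0, e3, e1, e1, e3, e2, e1, e2⟩),
  (104, 2, ⟨e3, e0, e1, e0, e2, e3, e2, e3, e3⟩),
  (105, 2, ⟨e0, e3, e0, e1, e0, e3, e1, e1, e1⟩),
  (106, 1, ⟨e0, e3, e0, e3, e2, e1, e1, e2, e1⟩),
  (107, 1, ⟨e3, e0, e3, e0, e1, e1, e2, e1, e1⟩),
  (108, 2, ⟨e2, e2, e2, e3, e2, e3, e1, e3, e2⟩),
  (109, 2, ⟨e3, e1, e2, e2, e0, e3, e1, e0, e1⟩),
  (110, 1, ⟨e3, e0, e3, e2, e1, e3, e1, e1, e2⟩),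
  (111, 2, ⟨e1, e3, e3, e3, e1, e2, e0, e2, e2⟩),
  (112, 2, ⟨e1, e3, e3, e0, e1, e1, e0, e1, e0⟩),
  (113, 2, ⟨e3, e0, e3, e1, e3, e3, e3, e3, e2⟩),
  (114, 2, ⟨e1, e0, e0, e0, e1, e0, e2, e0, e1⟩),
  (115, 0, ⟨e3, e3, e0, e1, e3, e2, e0, e1, e0⟩),
  (116, 1, ⟨e1, e3, e3, e0, e0, e1, e0, e1, e1⟩),
  (117, 0, ⟨e1, e0, e0, e0, e3, e2, e3, e1, e1⟩),
  (118, 1, ⟨e3, e2, e1, e1, e0, e3, e1, e3, e1⟩),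
  (119, 1, ⟨e3, e2, e2, e0, e1, e1, e3, e1, e3⟩),
  (120, 2, ⟨e0, e3, e0, e3, e1, e1, e1, e3, e1⟩),
  (121, 1, ⟨e1, e1, e0, e0, e1, e0, e1, e1, e1⟩),
  (122, 0, ⟨e3, e2, e2, e1, e2, e2, e1, e0, e2⟩),
  (123, 1, ⟨e1, e0, e0, e2, e1, e3, e2, e2, e0⟩),
  (124, 1, ⟨e1, e1, e0, e3, e2, e0, e0, e0, e1⟩),
  (125, 1, ⟨e3, e3, e3, e1, e0, e0, e0, e2, e0⟩),
  (126, 1, ⟨e3, e3, e3, e0, e1, e0, e1, e3, e3⟩),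
  (127, 0, ⟨e1, e0, e0, e0, e1, e0, e0, e2, e1⟩),
  (129, 0, ⟨e2, e0, e2, e1, e0, e2, e0, e1, e1⟩),
  (130, 1, ⟨e3, e3, e3, e1, e2, e3, e0, e1, e0⟩),
  (131, 0, ⟨e3, e1, e2, e2, e1, e0, e3, e3, e2⟩),
  (131, 2, ⟨e1, e1, e0, e0, e3, e2, e3, e2, e1⟩),
  (132, 1, ⟨e1, e3, e0, e0, e1, e1, e1, e0, e2⟩),
  (133, 2, ⟨e3, e1, e2, e0, e1, e1, e3, e2, e3⟩),
  (134, 1, ⟨e3, e2, e2, e2, e1, e2, e1, e0, e2⟩),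
  (135, 2, ⟨e1, e0, e0, e0, e1, e0, e1, e0, e1⟩),
  (136, 2, ⟨e3, e1, e2, e1, e3, e2, e1, e1, e2⟩),
  (137, 2, ⟨e1, e1, e0, e2, e3, e3, e2, e0, e0⟩),
  (138, 2, ⟨e1, e0, e0, e3, e1, e0, e0, e0, e1⟩),
  (139, 2, ⟨e3, e0, e3, e1, e1, e0, e0, e2, e0⟩),
  (140, 2, ⟨e3, e0, e3, e0, e1, e0, e1, e2, e3⟩),
  (142, 2, ⟨e2, e2, e2, e1, e1, e2, e0, e1, e1⟩),
  (143, 2, ⟨e3, e0, e3, e1, e3, e3, e0, e1, e0⟩),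
  (144, 0, ⟨e0, e0, e3, e1, e3, e2, e0, e2, e1⟩),
  (145, 1, ⟨e2, e3, e0, e1, e1, e3, e1, e3, e0⟩),
  (146, 2, ⟨e1, e2, e0, e0, e1, e1, e1, e1, e2⟩),
  (147, 1, ⟨e1, e0, e0, e0, e1, e0, e3, e0, e1⟩),
  (148, 2, ⟨e3, e1, e2, e2, e3, e2, e1, e1, e2⟩),
  (150, 1, ⟨e1, e0, e0, e2, e1, e0, e0, e0, e1⟩),
  (151, 0, ⟨e3, e0, e3, e2, e2, e1, e1, e2, e3⟩),
  (153, 0, ⟨e1, e0, e0, e3, e0, e3, e0, e2, e2⟩),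
  (154, 0, ⟨e1, e0, e0, e0, e1, e1, e0, e0, e1⟩),
  (155, 1, ⟨e1, e2, e1, e0, e0, e1, e0, e1, e0⟩),
  (156, 0, ⟨e1, e0, e0, e0, e1, e0, e0, e1, e1⟩),
  (157, 2, ⟨e0, e0, e3, e1, e2, e2, e0, e2, e1⟩),
  (158, 2, ⟨e2, e1, e0, e1, e0, e3, e1, e2, e0⟩),
  (159, 1, ⟨e1, e1, e2, e0, e1, e0, e0, e0, e1⟩),
  (161, 1, ⟨e1, e0, e0, e0, e1, e2, e0, e0, e1⟩),
  (163, 0, ⟨e1, e0, e0, e0, e1, e3, e0, e0, e1⟩),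
  (164, 2, ⟨e1, e1, e0, e3, e3, e3, e0, e2, e2⟩),
  (166, 2, ⟨e1, e3, e1, e0, e0, e1, e0, e1, e0⟩),
  (168, 0, ⟨e3, e3, e1, e1, e1, e3, e1, e3, e0⟩),
  (169, 1, ⟨e0, e3, e2, e0, e1, e1, e1, e1, e2⟩),
  (170, 2, ⟨e1, e0, e2, e0, e1, e0, e0, e0, e1⟩),
  (173, 0, ⟨e3, e0, e3, e1, e3, e3, e2, e0, e1⟩),
  (174, 1, ⟨e1, e0, e2, e1, e2, e3, e1, e3, e3⟩),
  (175, 2, ⟨e3, e0, e1, e1, e0, e3, e1, e2, e0⟩),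
  (176, 1, ⟨e1, e1, e3, e0, e1, e0, e0, e0, e1⟩),
  (178, 0, ⟨e1, e0, e0, e0, e1, e0, e0, e3, e1⟩),
  (179, 2, ⟨e1, e1, e2, e1, e3, e3, e1, e2, e3⟩),
  (180, 1, ⟨e3, e2, e1, e0, e1, e1, e1, e1, e2⟩),
  (181, 2, ⟨e1, e0, e3, e0, e1, e0, e0, e0, e1⟩),
  (183, 0, ⟨e1, e2, e0, e0, e1, e0, e0, e0, e1⟩),
  (184, 1, ⟨e1, e3, e0, e0, e1, e0, e0, e0, e1⟩)
]

end Cfsg.Agent.ShortPres.Three.Four
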